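import Groth.Agent.Lib.SepPt18.Field
import Groth.Agent.Lib.SepPt17.Point
import Groth.Agent.Lib.CurveCoh17.P1Apps
import Groth.Agent.Lib.CurveCoh17.GenusBC
import Groth.Agent.Lib.CurveOm17.AnyField
import Groth.Agent.Lib.CurveLocus.GeomFibre
import Groth.Agent.Lib.ShStab28.MuIso
import Groth.Agent.S6542

/-!
# A conic has a separable point of degree at most two
-/

set_option autoImplicit false
set_option linter.style.haveILetI false
set_option maxHeartbeats 1000000

universe u

open CategoryTheory CategoryTheory.Limits AlgebraicGeometry TopologicalSpace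

namespace Groth.Agent.SepPt18

variable {k : Type u} [Field k] {X : Scheme.{u}} [X.Over (Spec (CommRingCat.of k))] [IsIntegral X]
  [IsProper (X ↘ Spec (CommRingCat.of k))] [Smooth (X ↘ Spec (CommRingCat.of k))]

section coord

attribute [local instance] Curv2.stalkAlgebra

/-- A smooth genus zero curve has a separable coordinate of degree at most two. -/
theorem exists_separable_coord_two (hdim : topologicalKrullDim X = 1)
    (h0 : Module.finrank k (Coh.HH X (Coh.structureModule X) 0) = 1) (hg : Curv2.genus k X = 0) :
    ∃ f : X.functionField, Transcendental k f ∧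
      FiniteDimensional (IntermediateField.adjoin k ({f} : Set X.functionField)) X.functionField ∧
      Algebra.IsSeparable (IntermediateField.adjoin k ({f} : Set X.functionField)) X.functionField ∧
      Module.finrank (IntermediateField.adjoin k ({f} : Set X.functionField)) X.functionField ≤ 2 := by
  classical
  obtain ⟨hK, hgK⟩ := GenusFF17.genus_functionField hdim h0
  rw [hg] at hgK
  have hF := FunField.ff hK
  let p := ringExpChar k
  haveI : ExpChar k p := inferInstanceAs (ExpChar k (ringExpChar k))
  rcases expChar_is_prime_or_one k p with hp | hp1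
  swap
  · -- characteristic zero
    haveI : ExpChar k 1 := hp1 ▸ ‹ExpChar k p›
    haveI : CharZero k := charZero_of_expChar_one' k
    obtain ⟨t, ht, -⟩ := id hF
    have hbot : (⊥ : IntermediateField k X.functionField) ≠ ⊤ := fun e => by
      obtain ⟨c, hc⟩ := IntermediateField.mem_bot.1 (e ▸ IntermediateField.mem_top : t ∈ (⊥ : IntermediateField k X.functionField))
      exact ht (hc ▸ isAlgebraic_algebraMap c)
    obtain ⟨f, hft, hfd, hd, -⟩ := exists_coord_two hK hgK ⊥ hbot
    haveI := hfd
    haveI : CharZero (IntermediateField.adjoin k ({f} : Set X.functionField)) :=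
      charZero_of_injective_algebraMap (algebraMap k _).injective
    exact ⟨f, hft, hfd, inferInstance, hd⟩
  haveI : Fact p.Prime := ⟨hp⟩
  have hp0 : (p : k) = 0 := by
    have haux : ∀ q : ℕ, q.Prime → ExpChar k q → (q : k) = 0 := fun q hq hc => by
      cases hc
      · exact absurd hq Nat.not_prime_one
      · exact CharP.cast_eq_zero k q
    exact haux p hp inferInstance
  haveI : ExpChar X.functionField p := expChar_of_injective_algebraMap (algebraMap k X.functionField).injective p
  haveI : Algebra.EssFiniteType k X.functionField :=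
    Curve17.essFiniteType_functionField (X ↘ Spec (CommRingCat.of k))
  let M := IntermediateField.adjoin k (Set.range fun a : X.functionField => a ^ p)
  have hM : M ≠ ⊤ := fun e => by
    obtain ⟨t, ht, -⟩ := id hF
    exact SepPt17.not_transcendental_of_adjoin_pow p hp0 e t ht
  obtain ⟨f, hft, hfd, hd, hfM⟩ := exists_coord_two hK hgK M hM
  refine ⟨f, hft, hfd, ?_, hd⟩
  haveI := hfd
  obtain ⟨t, ht⟩ := Curve17.exists_separable_functionField (X ↘ Spec (CommRingCat.of k)) hdim
  let S := separableClosure (IntermediateField.adjoin k ({f} : Set X.functionField)) X.functionField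
  let S' : IntermediateField k X.functionField := S.restrictScalars k
  haveI : IsPurelyInseparable S' X.functionField :=
    show IsPurelyInseparable S X.functionField from separableClosure.isPurelyInseparable _ _
  letI algS' : Algebra k S' := S'.algebra'
  obtain ⟨r, hr, hrS⟩ := @Curve17.exists_fieldRange_eq_adjoin_pow k S' X.functionField _ _ _ algS' _ _
    (IsScalarTower.of_algebraMap_eq fun _ => rfl) p _ _ _ t ht
  rcases r with _ | r
  · refine ⟨fun a => ?_⟩
    obtain ⟨b, hb⟩ := hr a
    rw [pow_zero, pow_one] at hb
    exact hb ▸ mem_separableClosure_iff.1 b.2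
  · exfalso
    refine hfM ?_
    have hfS : f ∈ (IsScalarTower.toAlgHom k S' X.functionField).fieldRange :=
      ⟨⟨f, S.algebraMap_mem ⟨f, IntermediateField.mem_adjoin_simple_self k f⟩⟩, rfl⟩
    rw [hrS] at hfS
    have hle : IntermediateField.adjoin k (Set.range fun a : X.functionField => a ^ p ^ (r + 1)) ≤ M := by
      rw [IntermediateField.adjoin_le_iff]
      rintro _ ⟨a, rfl⟩
      exact IntermediateField.subset_adjoin k _ ⟨a ^ p ^ r, by
        show (a ^ p ^ r) ^ p = a ^ p ^ (r + 1)
        rw [← pow_mul, ← pow_succ]⟩
    exact hle hfS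

end coord

section point

attribute [local instance] Curv2.resAlgebra

/-- A smooth genus zero curve has a separable point of degree at most two. -/
theorem exists_separable_point_two (hdim : topologicalKrullDim X = 1)
    (h0 : Module.finrank k (Coh.HH X (Coh.structureModule X) 0) = 1) (hg : Curv2.genus k X = 0) :
    ∃ x : X, IsClosed ({x} : Set X) ∧ Algebra.IsSeparable k (X.residueField x) ∧
      Module.finrank k (X.residueField x) ≤ 2 ∧ FiniteDimensional k (X.residueField x) := by
  letI : Algebra k X.functionField := Curv2.stalkAlgebra k X (genericPoint X)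
  obtain ⟨f, hft, hfin, hsep, hd⟩ := exists_separable_coord_two hdim h0 hg
  obtain ⟨φ, hφ, hfφ, hflat, hN, V, hV, hV'⟩ := SepPt17.exists_map_of_coord hdim f hft hfin hsep
  haveI := hfin; haveI := hfφ; haveI := hflat; haveI := hV'
  obtain ⟨x, hx, hs, hle, hfd⟩ := SepPt17.exists_point φ hφ hN Module.finrank_pos hV
  exact ⟨x, hx, hs, hle.trans hd, hfd⟩

/-- A smooth genus zero curve becomes the line over a separable extension of degree at most two. -/
theorem exists_split (hdim : topologicalKrullDim X = 1)
    (h0 : Module.finrank k (Coh.HH X (Coh.structureModule X) 0) = 1) (hg : Curv2.genus k X = 0) :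
    ∃ (L : Type u) (_ : Field L) (_ : Algebra k L), FiniteDimensional k L ∧ Algebra.IsSeparable k L ∧
      Module.finrank k L ≤ 2 ∧
      ∃ e : pullback (X ↘ Spec (CommRingCat.of k)) (Spec.map (CommRingCat.ofHom (algebraMap k L))) ≅ CohB1.ProjSpace 1 L,
        e.hom ≫ CohB1.ProjSpace.toSpec 1 L = pullback.snd _ _ := by
  obtain ⟨x, hx, hs, hle, hfd⟩ := exists_separable_point_two hdim h0 hg
  let L : Type u := X.residueField x
  letI : Algebra k L := Curv2.resAlgebra k X x
  refine ⟨L, inferInstance, inferInstance, hfd, hs, hle, ?_⟩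
  let f := X ↘ Spec (CommRingCat.of k)
  let ι := Spec.map (CommRingCat.ofHom (algebraMap k L))
  let P := pullback f ι
  letI : P.Over (Spec (CommRingCat.of L)) := ⟨pullback.snd f ι⟩
  have hpb : IsPullback (pullback.fst f ι) (P ↘ Spec (CommRingCat.of L)) f ι := IsPullback.of_hasPullback f ι
  haveI : Smooth (P ↘ Spec (CommRingCat.of L)) := MorphismProperty.of_isPullback hpb ‹Smooth f›
  haveI : IsProper (P ↘ Spec (CommRingCat.of L)) := MorphismProperty.of_isPullback hpb ‹IsProper f›
  haveI := VB17.isNoetherian_of_over (k := k) (X := X)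
  have h0P : Module.finrank L (Coh.HH P (Coh.structureModule P) 0) = 1 :=
    (CurveCoh17.finrank_HH_of_isPullback hpb 0).trans h0
  have h1P : Module.finrank L (Coh.HH P (Coh.structureModule P) 1) = 0 :=
    (CurveCoh17.finrank_HH_of_isPullback hpb 1).trans hg
  haveI := CurveOm17.connectedSpace_of_h0 h0P
  haveI := VB17.isNoetherian_of_over (k := L) (X := P)
  haveI : IsIntegral P :=
    VB17.isIntegral_of_connected fun y => SmoothReg17.isDomain_stalk (P ↘ Spec (CommRingCat.of L)) y
  have hdimP : topologicalKrullDim P = 1 := (CurveLocus.topologicalKrullDim_bc f hpb).trans hdim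
  have hX' : CurveCoh17.CurveLike L P := VB17.curveLike hdimP
  haveI := hX'.fin _ (CurveCoh17.isCoh_structureModule (X := P)) 1
  have h1 : Subsingleton (Coh.HH P (Coh.structureModule P) 1) := Module.finrank_zero_iff.1 h1P
  let s : Spec (CommRingCat.of L) ⟶ P := pullback.lift (X.fromSpecResidueField x) (𝟙 _) (by
    rw [Category.id_comp]
    exact (GeomIrr.spec_resMap k X x).symm)
  have hs' : s ≫ (P ↘ Spec (CommRingCat.of L)) = 𝟙 _ := pullback.lift_snd _ _ _
  obtain ⟨hc, hr⟩ := CurveCoh17.section_point_props (k := L) s hs'
  have hN := ShStab28.isNormalScheme_of_smooth (k := L) (X := P)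
  exact S6542.result L P hdimP h1 {s (IsLocalRing.closedPoint L)}
    (fun y hy => Finset.mem_singleton.1 hy ▸ hc) (fun y _ => (hN y).2)
    (by rw [Finset.gcd_singleton]; simp [hr])

end point

end Groth.Agent.SepPt18
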