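import Groth.Agent.Lib.FunField.Hyper26
import Groth.Agent.Lib.FunField.RR
import Groth.Agent.Lib.FunField.Rational

/-!
# Coordinates of degree at most two on function fields of genus zero
-/

set_option autoImplicit false
set_option maxHeartbeats 800000

namespace Groth.Agent.SepPt18

open WithZero FunFld Groth.Agent.FunField Polynomial IntermediateField
open scoped Multiplicative

variable {k K : Type*} [Field k] [Field K] [Algebra k K]

/-- An intermediate field containing a subfield of index at most two is that subfield or everything. -/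
theorem eq_of_le_of_finrank_le_two {F M : IntermediateField k K} [FiniteDimensional F K] (hle : F ≤ M)
    (hF : Module.finrank F K ≤ 2) (hM : M ≠ ⊤) : F = M ∧ Module.finrank F K = 2 := by
  let M' : IntermediateField F K := IntermediateField.extendScalars hle
  have hmul : Module.finrank F M' * Module.finrank M' K = Module.finrank F K := Module.finrank_mul_finrank F M' K
  have h1 : Module.finrank M' K ≠ 1 := fun h => hM <| eq_top_iff.2 fun z _ => by
    have hz : z ∈ M' := by
      rw [IntermediateField.finrank_eq_one_iff_eq_top.1 h]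
      trivial
    exact (IntermediateField.mem_extendScalars hle).1 hz
  have hp1 : 0 < Module.finrank F M' := Module.finrank_pos
  have hp2 : 0 < Module.finrank M' K := Module.finrank_pos
  have e1 : Module.finrank F M' = 1 := by
    by_contra hne
    have h4 : 2 * 2 ≤ Module.finrank F M' * Module.finrank M' K := Nat.mul_le_mul (by omega) (by omega)
    omega
  have hbot : M' = ⊥ := IntermediateField.finrank_eq_one_iff.1 e1
  refine ⟨le_antisymm hle fun z hz => ?_, by rw [e1, one_mul] at hmul; omega⟩
  have hz' : z ∈ M' := (IntermediateField.mem_extendScalars hle).2 hz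
  rw [hbot, IntermediateField.mem_bot] at hz'
  obtain ⟨w, rfl⟩ := hz'
  exact w.2

/-- In genus zero there is, outside any proper subfield, a function of degree at most two. -/
theorem exists_coord_two (hK : IsFunctionField k K) (hg : genus k K = 0) (M : IntermediateField k K)
    (hM : M ≠ ⊤) :
    ∃ f : K, Transcendental k f ∧ FiniteDimensional k⟮f⟯ K ∧ Module.finrank k⟮f⟯ K ≤ 2 ∧ f ∉ M := by
  classical
  have hF := ff hK
  by_contra hcon
  push Not at hcon
  obtain ⟨C₀, hC₀⟩ := exists_isCanonical hK
  obtain ⟨-, hd₀⟩ := isCanonical_deg hK hC₀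
  have hdeg0 : (-C₀).deg = 2 := by rw [deg_neg, hd₀, hg]; norm_num
  have hl0 : (ell (-C₀) : ℤ) = 3 := by
    rw [ell_of_large_deg hK (-C₀) (by rw [hdeg0, hg]; norm_num), hdeg0, hg]
    norm_num
  obtain ⟨z, hz, hzC⟩ := exists_ne_zero_of_ell_pos hF (D := -C₀) (by omega)
  set C := -C₀ + FunFld.div k z
  have hlC : ell C = 3 := by
    rw [ell_add_div hF _ hz]; omega
  have hdC : C.deg = 2 := by rw [deg_add, deg_div hF, hdeg0]; norm_num
  have hpole : ∀ x ∈ FunFld.L C, poleDiv (k := k) x ≤ C := fun x hx P => by
    rw [poleDiv_apply hF]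
    refine max_le ?_ (hzC P)
    rcases eq_or_ne x 0 with rfl | h0
    · simpa [Place.ord] using hzC P
    · have h := (mem_L_iff_ord h0).1 hx P
      omega
  have key : ∀ x ∈ FunFld.L C, Transcendental k x → (k⟮x⟯ : IntermediateField k K) = M ∧
      poleDiv (k := k) x = C := fun x hx hxt => by
    haveI := hF.finiteDimensional hxt
    have hd : Module.finrank k⟮x⟯ K ≤ 2 := by
      have h1 := deg_mono (hpole x hx)
      rw [deg_poleDiv hF hxt, hdC] at h1
      omega
    have hxM := hcon x hxt inferInstance hd
    obtain ⟨he, h2⟩ := eq_of_le_of_finrank_le_two (IntermediateField.adjoin_simple_le_iff.2 hxM) hd hM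
    exact ⟨he, eq_of_le_of_deg hF (hpole x hx) (by rw [deg_poleDiv hF hxt, h2, hdC]; norm_num)⟩
  obtain ⟨f, hf, hft⟩ : ∃ f ∈ FunFld.L C, Transcendental k f := by
    by_contra hc
    have hle : FunFld.L C ≤ FunFld.L (0 : Divisor k K) := fun x hx => by
      obtain ⟨c, rfl⟩ := hK.2 x (by
        by_contra ha
        exact hc ⟨x, hx, ha⟩)
      intro P
      simpa using P.2.1 c
    haveI := finiteDimensional_L hF (0 : Divisor k K)
    have h2 := Submodule.finrank_mono hle
    rw [← FunFld.ell, ← FunFld.ell, ell_zero hK, hlC] at h2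
    omega
  obtain ⟨hfM, hfC⟩ := key f hf hft
  have hsub : FunFld.L C ≤ Submodule.span k ({1, f} : Set K) := by
    intro g hg'
    have hgM : g ∈ k⟮f⟯ := by
      rw [hfM]
      by_cases hgt : Transcendental k g
      · rw [← (key g hg' hgt).1]
        exact IntermediateField.mem_adjoin_simple_self k g
      · obtain ⟨c, rfl⟩ := hK.2 g (not_not.1 hgt)
        exact M.algebraMap_mem c
    obtain ⟨p, rfl⟩ := exists_aeval_of_bounded hF hft hgM fun P hP => by
      refine (mem_L.1 hg' P).trans ?_
      have h0 : C P = 0 := by
        rw [← hfC, poleDiv_apply hF]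
        have := (ord_nonneg_iff P f).2 hP
        omega
      rw [h0, exp_zero]
    rcases eq_or_ne p 0 with rfl | hp
    · simp
    obtain ⟨P, hP⟩ := exists_pole_of_transcendental hF hft
    have hf1 : 1 < P.1 f := by
      by_contra hle
      have := (ord_nonneg_iff P f).2 (not_lt.1 hle)
      omega
    have hCP : C P = -P.ord f := by
      rw [← hfC, poleDiv_apply hF]
      omega
    have h1 := mem_L.1 hg' P
    rw [val_aeval_of_one_lt P hf1 hp, val_eq_exp_neg_ord P (ne_zero_of_transcendental hft), hCP,
      ← exp_nsmul, exp_le_exp, nsmul_eq_mul] at h1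
    have hdeg : p.natDegree ≤ 1 := by
      by_contra hlt
      push Not at hlt
      have h2 : (2 : ℤ) ≤ (p.natDegree : ℤ) := by exact_mod_cast hlt
      nlinarith
    obtain ⟨a, b, rfl⟩ := Polynomial.exists_eq_X_add_C_of_natDegree_le_one hdeg
    rw [map_add, map_mul, aeval_C, aeval_C, aeval_X, ← Algebra.smul_def, Algebra.algebraMap_eq_smul_one]
    exact add_mem (Submodule.smul_mem _ _ (Submodule.subset_span (by simp)))
      (Submodule.smul_mem _ _ (Submodule.subset_span (by simp)))
  have h3 : Module.finrank k (FunFld.L C) ≤ 2 := by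
    haveI : FiniteDimensional k (Submodule.span k ({1, f} : Set K)) :=
      FiniteDimensional.span_of_finite k (by simp)
    refine (Submodule.finrank_mono hsub).trans ?_
    have : ({1, f} : Set K) = (({1, f} : Finset K) : Set K) := by simp
    rw [this]
    exact (finrank_span_finset_le_card _).trans Finset.card_le_two
  rw [← FunFld.ell, hlC] at h3
  omega

end Groth.Agent.SepPt18
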